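import Groth.Agent.GrpQuotLib.Group
import Groth.Agent.GrpQuotLib.Components
import Groth.Agent.GrpQuotLib.Restrict
import Groth.Agent.GrpSchLib.KernelGrp
import Groth.Agent.GrpSchLib.NilpQuot
import Groth.Agent.GrpSchLib.IdentityComp
import Groth.Agent.GrpSchLib.AdjointQuot
import Groth.Agent.GrpSchLib.HomFinite
import Groth.Agent.H23.FinCondSch
import Groth.Agent.H23.TopDim
import Groth.Agent.DescLib.Reduced
import Groth.Agent.S11994
import Groth.Agent.S3036
import Mathlib.AlgebraicGeometry.Morphisms.FlatMono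
import Mathlib.AlgebraicGeometry.Geometrically.Integral

/-! The Albanese quotient of a smooth connected algebraic group. -/

set_option backward.isDefEq.respectTransparency false
set_option backward.isDefEq.respectTransparency.types false

universe u

open CategoryTheory Limits AlgebraicGeometry MonoidalCategory CartesianMonoidalCategory MonObj TopologicalSpace
open Groth.Agent.GrpSchLib.BundleQuot

noncomputable section

namespace Groth.Agent.AlbQuotLib

variable {k : Type u} [Field k]

theorem geometricallyIntegral (G : (Over (Spec (CommRingCat.of k)))) [GrpObj G] [Smooth G.hom] [QuasiCompact G.hom] [ConnectedSpace G.left] :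
    GeometricallyIntegral G.hom := by
  haveI : GeometricallyReduced G.hom :=
    ⟨fun K _ x Z a b hp => by
      haveI : Smooth b := MorphismProperty.of_isPullback hp inferInstance
      exact DescLib.isReduced_of_smooth_of_isReduced b⟩
  haveI : GeometricallyIrreducible G.hom := GrpSchLib.Adjoint.geometricallyIrreducible (G := G)
  exact GeometricallyIntegral.of_geometricallyReduced_of_geometricallyIrreducible _

/-- `i` is the kernel of a faithfully flat homomorphism onto an abelian variety. -/
structure AbKer {G : (Over (Spec (CommRingCat.of k)))} [GrpObj G] {N : (Over (Spec (CommRingCat.of k)))} [GrpObj N] (i : N ⟶ G) (A : (Over (Spec (CommRingCat.of k)))) [GrpObj A] (α : G ⟶ A) : Prop where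
  hi : IsMonHom i
  ci : IsClosedImmersion i.left
  normal : AlgGrp.IsNormalHom i
  prop : IsProper A.hom
  smooth : Smooth A.hom
  conn : ConnectedSpace A.left
  hα : IsMonHom α
  surj : Surjective α.left
  flat : Flat α.left
  ker : AlgGrp.IsKernel i α

/-- An ideal cutting out the kernel of a homomorphism onto an abelian variety. -/
def IsAbIdeal (G : (Over (Spec (CommRingCat.of k)))) [GrpObj G] (I : G.left.IdealSheafData) : Prop :=
  ∃ (N : (Over (Spec (CommRingCat.of k)))) (_ : GrpObj N) (i : N ⟶ G) (A : (Over (Spec (CommRingCat.of k)))) (_ : GrpObj A) (α : G ⟶ A), AbKer i A α ∧ i.left.ker = I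

variable {G : (Over (Spec (CommRingCat.of k)))} [GrpObj G] [Smooth G.hom] [QuasiCompact G.hom] [ConnectedSpace G.left]

theorem exists_abIdeal : ∃ I : G.left.IdealSheafData, IsAbIdeal G I := by
  let U : (Over (Spec (CommRingCat.of k))) := 𝟙_ _
  haveI : IsMonHom (toUnit G) := inferInstance
  haveI : IsSeparated U.hom := inferInstanceAs (IsSeparated (𝟙 (Spec (CommRingCat.of k))))
  haveI : Subsingleton ↥(Spec (CommRingCat.of k)) := inferInstance
  haveI : IrreducibleSpace ↥(Spec (CommRingCat.of k)) := inferInstance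
  obtain ⟨N, _, i, h1, h2, h3, h4⟩ := GrpSchLib.exists_kernel (toUnit G)
  refine ⟨_, N, ‹_›, i, U, inferInstance, toUnit G, ⟨h1, h2, h3, inferInstanceAs (IsProper (𝟙 (Spec (CommRingCat.of k)))),
    inferInstanceAs (Smooth (𝟙 (Spec (CommRingCat.of k)))), inferInstanceAs (ConnectedSpace ↥(Spec (CommRingCat.of k))),
    inferInstance, ⟨fun y => ?_⟩, inferInstanceAs (Flat G.hom), h4⟩, rfl⟩
  exact ⟨Classical.arbitrary G.left, @Subsingleton.elim ↥(Spec (CommRingCat.of k)) _ _ _⟩

variable (G) in
theorem exists_maximal : ∃ I : G.left.IdealSheafData, IsAbIdeal G I ∧ ∀ J : G.left.IdealSheafData, IsAbIdeal G J → I ≤ J → J = I := by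
  haveI : IsLocallyNoetherian G.left := LocallyOfFiniteType.isLocallyNoetherian G.hom
  haveI : CompactSpace G.left := QuasiCompact.compactSpace_of_compactSpace G.hom
  haveI : IsNoetherian G.left := ⟨⟩
  haveI := H23.FinCondSch.wellFoundedGT (X := G.left)
  obtain ⟨I, hI, hmax⟩ := WellFounded.has_min (IsWellFounded.wf (r := ((· > ·) :
    G.left.IdealSheafData → G.left.IdealSheafData → Prop))) {I | IsAbIdeal G I} exists_abIdeal
  exact ⟨I, hI, fun J hJ hle => by
    rcases hle.lt_or_eq with h | h
    · exact absurd h (hmax J hJ)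
    · exact h.symm⟩

section Max

variable {N : (Over (Spec (CommRingCat.of k)))} [GrpObj N] {i : N ⟶ G} {A : (Over (Spec (CommRingCat.of k)))} [GrpObj A] {α : G ⟶ A}
  (h : AbKer i A α) (hmax : ∀ J : G.left.IdealSheafData, IsAbIdeal G J → i.left.ker ≤ J → J = i.left.ker)

include h hmax in
/-- Smaller kernels are equal to a minimal one. -/
theorem exists_factor {N' : (Over (Spec (CommRingCat.of k)))} [GrpObj N'] {i' : N' ⟶ G} {Q : (Over (Spec (CommRingCat.of k)))} [GrpObj Q] {q : G ⟶ Q} (h' : AbKer i' Q q)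
    (l : N' ⟶ N) (hl : l ≫ i = i') : ∃ m : N ⟶ N', m ≫ i' = i := by
  haveI := h'.ci
  have hle : i.left.ker ≤ i'.left.ker := by rw [← hl]; exact l.left.le_ker_comp i.left
  have e := hmax _ ⟨N', ‹_›, i', Q, ‹_›, q, h', rfl⟩ hle
  refine ⟨Over.homMk (IsClosedImmersion.lift i'.left i.left e.le) ?_,
    Over.OverMorphism.ext (IsClosedImmersion.lift_fac _ _ _)⟩
  rw [← Over.w i', IsClosedImmersion.lift_fac_assoc, Over.w]

include h hmax in
/-- A pointed map to an abelian variety is a homomorphism killing the minimal kernel. -/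
theorem isMonHom_and_kills {B : (Over (Spec (CommRingCat.of k)))} [GrpObj B] [IsProper B.hom] [Smooth B.hom] [ConnectedSpace B.left] (f : G ⟶ B)
    (hf : η[G] ≫ f = η[B]) : IsMonHom f ∧ i ≫ f = 1 := by
  haveI := geometricallyIntegral G
  haveI := geometricallyIntegral B
  haveI := GrpSchLib.AntiAffine.isSeparated_grp G
  haveI hfm : IsMonHom f := S11994.result k G B f hf
  refine ⟨hfm, ?_⟩
  obtain ⟨hi, ci, hn, hAp, hAs, hAc, hα, hαs, hαf, hker⟩ := id h
  haveI := hi; haveI := ci; haveI := hAp; haveI := hAs; haveI := hAc; haveI := hα; haveI := hαs; haveI := hαf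
  haveI : IsProper (A ⊗ B).hom := inferInstanceAs (IsProper (pullback.fst A.hom B.hom ≫ A.hom))
  haveI : LocallyOfFiniteType G.hom := inferInstance
  let p : G ⟶ A ⊗ B := lift α f
  haveI : IsMonHom p := inferInstanceAs (IsMonHom (lift α f))
  obtain ⟨N', _, i', hi', ci', hn', hk'⟩ := GrpSchLib.exists_kernel p
  haveI : Mono i' := (Over.forget _).mono_of_mono_map (inferInstanceAs (Mono i'.left))
  haveI : LocallyOfFiniteType N'.hom := by rw [← Over.w i']; infer_instance
  obtain ⟨Q, _, q, hq, hqf, hqs, hqp, hQlft, hc, hkq⟩ := GrpQuotLib.exists_quotientGrp i' hn'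
  haveI := hq; haveI := hqf; haveI := hqs; haveI := hqp
  have hcov : Cover q := ⟨hqf, hqs, hqp⟩
  have hi'p : i' ≫ p = 1 := hk'.w
  obtain ⟨j, ⟨hj, hjm⟩, -⟩ := FpqcDescLib.exists_unique_hom
    (FpqcDescLib.covers_of_isCovering (FpqcDescLib.isCovering_of_lfp q.left)) hc p hi'p
  haveI := hjm
  haveI : Mono j := ⟨fun {T} a b hab => by
    obtain ⟨T₁, c₁, a', hc₁, ha⟩ := hcov.lift a
    obtain ⟨T₂, c₂, b', hc₂, hb⟩ := hcov.lift (c₁ ≫ b)
    have h1 : (c₂ ≫ a') ≫ p = b' ≫ p := by
      rw [← hj, ← Category.assoc, ← Category.assoc, hb, Category.assoc c₂ a' q, ha]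
      simp only [Category.assoc, hab]
    have h2 : ((c₂ ≫ a')⁻¹ * b') ≫ p = 1 := by
      rw [MonObj.mul_comp, GrpObj.inv_comp, h1, inv_mul_cancel]
    have h3 : (c₂ ≫ a') ≫ q = b' ≫ q := (hc _ _ _).2 ⟨hk'.lift _ (toUnit _) h2, by
      rw [IsPullback.lift_fst, mul_inv_cancel_left]⟩
    refine (hc₁.hasLocSec).hom_ext ((hc₂.hasLocSec).hom_ext ?_)
    rw [← hb, ← h3, Category.assoc, ha]⟩
  obtain ⟨-, hQqc, hQsm⟩ := GrpQuotLib.props_of_cover hcov
  haveI : QuasiCompact Q.hom := hQqc inferInstance
  haveI : Smooth Q.hom := hQsm inferInstance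
  haveI : QuasiCompact j.left := by
    haveI : QuasiCompact (j.left ≫ (A ⊗ B).hom) := by rw [Over.w j]; infer_instance
    exact QuasiCompact.of_comp j.left (A ⊗ B).hom
  haveI : IsClosedImmersion j.left := S3036.result k Q (A ⊗ B) j
  haveI : IsProper Q.hom := by rw [← Over.w j]; infer_instance
  haveI : ConnectedSpace Q.left := q.left.surjective.connectedSpace q.left.continuous
  have hi'α : i' ≫ α = 1 := by
    have := congrArg (· ≫ fst A B) hi'p
    simpa [p] using this
  obtain ⟨m, hm⟩ := exists_factor (h := h) hmax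
    (h' := ⟨hi', ci', hn', ‹_›, ‹_›, ‹_›, hq, hqs, hqf, hkq⟩)
    (hker.lift i' (toUnit _) hi'α) (hker.lift_fst _ _ _)
  have hi'f : i' ≫ f = 1 := by
    have := congrArg (· ≫ snd A B) hi'p
    simpa [p] using this
  rw [← hm, Category.assoc, hi'f, MonObj.comp_one]

include h hmax in
/-- The universal property. -/
theorem exists_unique_factor {B : (Over (Spec (CommRingCat.of k)))} [GrpObj B] [IsProper B.hom] [Smooth B.hom] [ConnectedSpace B.left] (f : G ⟶ B)
    (hf : η[G] ≫ f = η[B]) : ∃! g : A ⟶ B, α ≫ g = f := by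
  obtain ⟨hfm, hkill⟩ := isMonHom_and_kills h hmax f hf
  haveI := h.hα; haveI := h.surj; haveI := h.flat; haveI := h.prop
  refine (GrpSchLib.NilpQuot.cover_of_lft α).hasLocSec.existsUnique_desc f fun T a b hab => ?_
  have h1 : (a⁻¹ * b) ≫ α = 1 := by rw [MonObj.mul_comp, GrpObj.inv_comp, hab, inv_mul_cancel]
  have h2 := congrArg (· ≫ f) (h.ker.lift_fst (a⁻¹ * b) (toUnit _) h1)
  simp only [Category.assoc, hkill, MonObj.comp_one, MonObj.mul_comp, GrpObj.inv_comp] at h2
  exact inv_mul_eq_one.mp h2.symm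

include h hmax in
/-- The minimal kernel is connected. -/
theorem connectedSpace : ConnectedSpace N.left := by
  obtain ⟨hi, ci, hn, hAp, hAs, hAc, hα, hαs, hαf, hker⟩ := id h
  haveI := hi; haveI := ci; haveI := hAp; haveI := hAs; haveI := hAc; haveI := hα; haveI := hαs; haveI := hαf
  haveI := GrpSchLib.AntiAffine.isSeparated_grp G
  haveI : LocallyOfFiniteType N.hom := by rw [← Over.w i]; infer_instance
  haveI : Mono i := (Over.forget _).mono_of_mono_map (inferInstanceAs (Mono i.left))
  haveI : IsLocallyNoetherian N.left := LocallyOfFiniteType.isLocallyNoetherian N.hom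
  obtain ⟨N₀, _, incl, hinc, ci₀, fl₀, hrange, hirr, hcomp⟩ := GrpSchLib.exists_identityComponent (G := N)
  haveI := hinc; haveI := ci₀; haveI := fl₀; haveI := hirr; haveI := hcomp
  haveI : IsOpenImmersion incl.left := IsOpenImmersion.of_flat_of_mono incl.left
  haveI : LocallyOfFiniteType N₀.hom := by rw [← Over.w incl]; infer_instance
  haveI : IrreducibleSpace N₀.left := GeometricallyIrreducible.irreducibleSpace_of_subsingleton N₀.hom
  haveI : GeometricallyIrreducible G.hom := GrpSchLib.Adjoint.geometricallyIrreducible (G := G)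
  let i₀ : N₀ ⟶ G := incl ≫ i
  haveI : IsClosedImmersion i₀.left := inferInstanceAs (IsClosedImmersion (incl.left ≫ i.left))
  haveI : Mono i₀ := (Over.forget _).mono_of_mono_map (inferInstanceAs (Mono i₀.left))
  have hn₀ : AlgGrp.IsNormalHom i₀ := by
    let T₀ : (Over (Spec (CommRingCat.of k))) := G ⊗ N₀
    haveI : IrreducibleSpace T₀.left :=
      inferInstanceAs (IrreducibleSpace ↥(pullback G.hom N₀.hom))
    obtain ⟨c, hc⟩ := hn T₀ (fst G N₀) (snd G N₀ ≫ incl)
    let e : 𝟙_ (Over (Spec (CommRingCat.of k))) ⟶ T₀ := lift η[G] η[N₀]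
    have he : e ≫ c = η[N] := by
      rw [← cancel_mono i, Category.assoc, ← hc, IsMonHom.one_hom i]
      simp only [e, MonObj.comp_mul, GrpObj.comp_inv, lift_fst, Category.assoc, lift_snd_assoc]
      rw [← Category.assoc η[N₀] incl i, IsMonHom.one_hom incl, IsMonHom.one_hom i]
      simp [MonObj.one_eq_one]
    have hsub : Set.range c.left ⊆ Set.range incl.left := by
      rw [hrange]
      refine (isPreconnected_range c.left.continuous).subset_connectedComponent
        ⟨e.left (IsLocalRing.closedPoint k), ?_⟩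
      rw [← he]; rfl
    obtain ⟨l, hl⟩ := GrpQuotLib.exists_lift_of_range_subset incl c hsub
    intro T g n
    refine ⟨lift g n ≫ l, ?_⟩
    have e1 := congrArg (lift g n ≫ ·) hc
    simp only [MonObj.comp_mul, GrpObj.comp_inv, lift_fst, lift_snd_assoc, Category.assoc] at e1
    simpa only [i₀, Category.assoc, reassoc_of% hl] using e1
  obtain ⟨Q, _, q, hq, hqf, hqs, hqp, hQlft, hcq, hkq⟩ := GrpQuotLib.exists_quotientGrp i₀ hn₀
  haveI := hq; haveI := hqf; haveI := hqs; haveI := hqp
  have hcov : Cover q := ⟨hqf, hqs, hqp⟩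
  have hi₀α : i₀ ≫ α = 1 := by
    rw [Category.assoc, show i ≫ α = 1 from hker.w, MonObj.comp_one]
  obtain ⟨g, ⟨hg, hgm⟩, -⟩ := FpqcDescLib.exists_unique_hom
    (FpqcDescLib.covers_of_isCovering (FpqcDescLib.isCovering_of_lfp q.left)) hcq α hi₀α
  haveI := hgm
  obtain ⟨-, hQqc, hQsm⟩ := GrpQuotLib.props_of_cover hcov
  haveI : QuasiCompact Q.hom := hQqc inferInstance
  haveI : Smooth Q.hom := hQsm inferInstance
  haveI : ConnectedSpace Q.left := q.left.surjective.connectedSpace q.left.continuous
  haveI : QuasiCompact g.left := by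
    haveI : QuasiCompact (g.left ≫ A.hom) := by rw [Over.w g]; infer_instance
    exact QuasiCompact.of_comp g.left A.hom
  -- the kernel of `g` is discrete
  obtain ⟨K, _, iK, hiK, ciK, -, hkK⟩ := GrpSchLib.exists_kernel g
  haveI := hiK; haveI := ciK
  haveI : LocallyOfFiniteType K.hom := by rw [← Over.w iK]; infer_instance
  haveI : Mono iK := (Over.forget _).mono_of_mono_map (inferInstanceAs (Mono iK.left))
  have hiqg : (i ≫ q) ≫ g = 1 := by rw [Category.assoc, hg]; exact hker.w
  let t : N ⟶ K := hkK.lift (i ≫ q) (toUnit _) hiqg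
  have ht : t ≫ iK = i ≫ q := hkK.lift_fst _ _ _
  have hsq : IsPullback i t q iK := by
    have := hker
    unfold AlgGrp.IsKernel at this
    rw [← hg] at this
    exact IsPullback.of_bot (by rwa [toUnit_unique (t ≫ toUnit K) (toUnit N)]) ht.symm hkK
  have hsql := hsq.map (Over.forget _)
  haveI : Flat t.left := MorphismProperty.of_isPullback hsql hqf
  haveI : LocallyOfFinitePresentation t.left := MorphismProperty.of_isPullback hsql hqp
  have hinclt : incl ≫ t = toUnit N₀ ≫ η[K] := by
    rw [← cancel_mono iK, Category.assoc, ht, Category.assoc, IsMonHom.one_hom iK]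
    exact (Category.assoc _ _ _).symm.trans hkq.w |>.trans (by rw [MonObj.one_eq_one])
  let e0 : K.left := η[K].left (IsLocalRing.closedPoint k)
  have himg : t.left '' Set.range incl.left = {e0} := by
    ext x
    constructor
    · rintro ⟨_, ⟨y, rfl⟩, rfl⟩
      show (incl ≫ t).left y = e0
      rw [hinclt]
      exact congrArg η[K].left (@Subsingleton.elim ↥(Spec (CommRingCat.of k)) _ _ _)
    · intro hx
      obtain ⟨y⟩ : Nonempty N₀.left := inferInstance
      refine ⟨_, ⟨y, rfl⟩, ?_⟩
      show (incl ≫ t).left y = x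
      rw [hinclt, Set.mem_singleton_iff.mp hx]
      exact congrArg η[K].left (@Subsingleton.elim ↥(Spec (CommRingCat.of k)) _ _ _)
  have hopen : IsOpen ({e0} : Set K.left) := himg ▸ t.left.isOpenMap _ incl.left.isOpenEmbedding.isOpen_range
  haveI : IsClosedImmersion η[K].left := by
    haveI := GrpSchLib.AntiAffine.isSeparated_grp K
    haveI : IsClosedImmersion (η[K].left ≫ K.hom) := by
      rw [Over.w η[K]]; exact inferInstanceAs (IsClosedImmersion (𝟙 (Spec (CommRingCat.of k))))
    exact IsClosedImmersion.of_comp η[K].left K.hom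
  have hclosed : IsClosed ({e0} : Set K.left) := by
    have h1 := η[K].left.isClosedEmbedding.isClosed_range
    convert h1
    ext x
    constructor
    · intro hx; exact ⟨_, (Set.mem_singleton_iff.mp hx).symm⟩
    · rintro ⟨y, rfl⟩; exact congrArg η[K].left (@Subsingleton.elim ↥(Spec (CommRingCat.of k)) _ _ _)
  have hcc : connectedComponent e0 = {e0} :=
    subset_antisymm (IsClopen.connectedComponent_subset ⟨hclosed, hopen⟩ rfl)
      (Set.singleton_subset_iff.mpr mem_connectedComponent)
  have hdim : topologicalKrullDim K.left ≤ 0 := by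
    rw [← GrpQuotLib.dim_grp_component (G := K) e0, hcc, topologicalKrullDim]
    haveI : Subsingleton (IrreducibleCloseds ↥({e0} : Set K.left)) := ⟨fun a b => by
      ext x
      obtain ⟨y, hy⟩ := a.isIrreducible.nonempty
      obtain ⟨z, hz⟩ := b.isIrreducible.nonempty
      exact ⟨fun _ => Subsingleton.elim z x ▸ hz, fun _ => Subsingleton.elim y x ▸ hy⟩⟩
    exact Order.krullDim_nonpos_of_subsingleton
  haveI : CompactSpace K.left := by
    haveI : QuasiCompact K.hom := by rw [← Over.w iK]; infer_instance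
    exact QuasiCompact.compactSpace_of_compactSpace K.hom
  haveI : IsLocallyNoetherian K.left := LocallyOfFiniteType.isLocallyNoetherian K.hom
  haveI : IsNoetherian K.left := ⟨⟩
  haveI : DiscreteTopology ↥((Over.forget _).obj K) := (H23.TopDim.finite_discrete_of_dim_le_zero hdim).2
  haveI : IsFinite g.left := GrpSchLib.HomFinite.isFinite_of_discrete_ker g
    (hkK.map (Over.forget _)).isoPullback.hom.homeomorph.symm.isEmbedding.discreteTopology
  haveI : IsProper Q.hom := by rw [← Over.w g]; infer_instance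
  obtain ⟨m, hm⟩ := exists_factor h hmax (h' := ⟨inferInstance, inferInstance, hn₀, ‹_›, ‹_›, ‹_›, hq, hqs, hqf, hkq⟩)
    incl rfl
  have hmi : m ≫ incl = 𝟙 N := by rw [← cancel_mono i, Category.assoc, Category.id_comp]; exact hm
  refine Function.Surjective.connectedSpace (fun x => ⟨m.left x, ?_⟩) incl.left.continuous
  exact congrArg (fun f : N ⟶ N => f.left x) hmi

end Max

theorem exists_albanese : ∃ (N : (Over (Spec (CommRingCat.of k)))) (_ : GrpObj N) (i : N ⟶ G) (A : (Over (Spec (CommRingCat.of k)))) (_ : GrpObj A) (α : G ⟶ A),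
    AbKer i A α ∧ ConnectedSpace N.left ∧
    ∀ (B : (Over (Spec (CommRingCat.of k)))) [GrpObj B] [IsProper B.hom] [Smooth B.hom] [ConnectedSpace B.left] (f : G ⟶ B),
      η[G] ≫ f = η[B] → (∃! g : A ⟶ B, α ≫ g = f) ∧ IsMonHom f ∧ i ≫ f = 1 := by
  obtain ⟨I, ⟨N, _, i, A, _, α, h, rfl⟩, hmax⟩ := exists_maximal G
  refine ⟨N, ‹_›, i, A, ‹_›, α, h, connectedSpace h hmax, ?_⟩
  intro B _ _ _ _ f hf
  exact ⟨exists_unique_factor h hmax f hf, isMonHom_and_kills h hmax f hf⟩

end Groth.Agent.AlbQuotLib
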